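import Groth.Agent.Lib.RatliffUC3.Core
import Groth.Agent.Lib.Ratliff.Completion
import Groth.Agent.Lib.AdicFS.Completion
import Groth.Agent.Lib.Altitude.Chains
import Groth.Agent.Lib.Altitude.Scheme

/-!
# Universally catenary local rings are formally catenary
-/

set_option autoImplicit false
set_option linter.style.haveILetI false
universe u

open IsLocalRing

namespace GrothLib.RatliffUC3

open GrothLib.Ratliff

theorem one_le_height_map {R : Type u} [CommRing R] {P Q : Ideal R} [P.IsPrime] [Q.IsPrime] (h : P < Q) :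
    1 ≤ (Q.map (Ideal.Quotient.mk P)).height := by
  haveI : (Q.map (Ideal.Quotient.mk P)).IsPrime := Ideal.isPrime_map_quotientMk_of_isPrime h.le
  rw [Order.one_le_iff_ne_zero, Ne, Ideal.height_eq_zero_iff, IsDomain.minimalPrimes_eq_singleton_bot,
    Set.mem_singleton_iff]
  intro h0
  refine h.not_ge fun z hz => Ideal.Quotient.eq_zero_iff_mem.1 ?_
  have := Ideal.mem_map_of_mem (Ideal.Quotient.mk P) hz
  rwa [h0, Submodule.mem_bot] at this

/-- The completion of a universally catenary local domain is equidimensional. -/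
theorem isFormallyEquidim (d : ℕ) : ∀ (A : Type u) [CommRing A] [IsDomain A] [IsLocalRing A] [IsNoetherianRing A],
    CAlg.IsUniversallyCatenary A → (maximalIdeal A).height ≤ d → EGA4.IsFormallyEquidim A := by
  induction d using Nat.strong_induction_on with
  | _ d ih =>
    intro A _ _ _ _ hA hd
    classical
    show EGA4.IsEquidim (EGA4.Cpl A)
    haveI : Module.FaithfullyFlat A (EGA4.Cpl A) := GrothLib.Excellent.faithfullyFlat_cpl A
    have hmC : maximalIdeal (EGA4.Cpl A) = (maximalIdeal A).map (algebraMap A (EGA4.Cpl A)) :=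
      AdicCompletion.maximalIdeal_eq_map
    have happ : ∀ (c : EGA4.Cpl A) (k : ℕ), ∃ a : A, c - algebraMap A _ a ∈ maximalIdeal (EGA4.Cpl A) ^ k := by
      intro c k
      rw [hmC]
      exact GrothLib.AdicFS.exists_sub_mem_map_pow (IsNoetherian.noetherian _) k c
    have hh : qdim (⊥ : Ideal (EGA4.Cpl A)) = (maximalIdeal A).height := by
      have h0 := ringKrullDim_cpl (A := A)
      rw [ringKrullDim_eq, ringKrullDim_eq, WithBot.coe_inj, qdim_bot (R := A)] at h0
      exact h0
    rw [isEquidim_iff]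
    intro q hq
    haveI := hq.1.1
    have hle : qdim q ≤ qdim (⊥ : Ideal (EGA4.Cpl A)) := qdim_mono bot_le hq.1.1.ne_top
    have hcat : CAlg.IsCatenary (EGA4.Cpl A ⧸ q) :=
      GrothLib.CatBasics.isCatenary_of_surjective _ Ideal.Quotient.mk_surjective isCatenary_cpl
    by_cases he : qdim q ≤ 1
    · have h1 : ∀ Q : Ideal (EGA4.Cpl A), Q.IsPrime → q < Q → Q = maximalIdeal (EGA4.Cpl A) := by
        intro Q hQ hqQ
        by_contra hne
        have hQm : Q < maximalIdeal (EGA4.Cpl A) := lt_of_le_of_ne (IsLocalRing.le_maximalIdeal hQ.ne_top) hne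
        have hsum := height_quot_add q Q (maximalIdeal (EGA4.Cpl A)) hqQ.le hQm.le hcat
        have := add_le_add (one_le_height_map hqQ) (one_le_height_map hQm)
        rw [← hsum] at this
        exact absurd (this.trans he) (by norm_num)
      have hA1 := height_le_one hA hmC happ q hq h1
      refine le_antisymm hle ?_
      rcases eq_or_ne q (maximalIdeal (EGA4.Cpl A)) with he0 | hne
      · rw [he0] at hq
        rw [qdim_bot, Ideal.height_eq_zero_iff.2 hq]
        exact zero_le
      · rw [hh]
        exact hA1.trans (one_le_height_map (lt_of_le_of_ne (IsLocalRing.le_maximalIdeal hq.1.1.ne_top) hne))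
    push Not at he
    have hmq : q < maximalIdeal (EGA4.Cpl A) := lt_of_le_of_ne (IsLocalRing.le_maximalIdeal hq.1.1.ne_top) fun h => by
      rw [qdim, h, Ideal.map_quotient_self, Ideal.height_bot] at he
      exact absurd he (by simp)
    -- the primes to avoid
    let T : Set (Ideal (EGA4.Cpl A)) := {Q | Q ≠ maximalIdeal (EGA4.Cpl A) ∧
      ∃ q' ∈ minimalPrimes (EGA4.Cpl A), q' ≠ q ∧ Q ∈ (q ⊔ q').minimalPrimes}
    have hT : T.Finite := by
      refine ((Ideal.finite_minimalPrimes_of_isNoetherianRing (EGA4.Cpl A) ⊥).biUnion fun q' _ =>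
        Ideal.finite_minimalPrimes_of_isNoetherianRing (EGA4.Cpl A) (q ⊔ q')).subset ?_
      rintro Q ⟨-, q', hq', -, hQ⟩
      exact Set.mem_biUnion hq' hQ
    have hbad : ∀ I ∈ insert (⊥ : Ideal A) (hT.toFinset.image (Ideal.under A)), I.IsPrime ∧ I ≠ maximalIdeal A := by
      intro I hI
      rcases Finset.mem_insert.1 hI with rfl | hI
      · refine ⟨Ideal.isPrime_bot, fun h => ?_⟩
        have h0 : (maximalIdeal A).height = 0 := by rw [← h, Ideal.height_bot]
        rw [hh, h0] at hle
        exact absurd (he.trans_le hle) (by simp)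
      · obtain ⟨Q, hQ, rfl⟩ := Finset.mem_image.1 hI
        obtain ⟨hQne, q', -, -, hQmin⟩ := hT.mem_toFinset.1 hQ
        haveI := hQmin.1.1
        refine ⟨inferInstance, fun h => hQne ((maximalIdeal.isMaximal (EGA4.Cpl A)).eq_of_le
          hQmin.1.1.ne_top ?_).symm⟩
        rw [hmC, Ideal.map_le_iff_le_comap]; exact h.ge
    obtain ⟨x, hxm, hx⟩ : ∃ x ∈ maximalIdeal A, ∀ I ∈ insert (⊥ : Ideal A) (hT.toFinset.image (Ideal.under A)),
        x ∉ I := by
      by_contra hcon
      push Not at hcon
      obtain ⟨I, hI, hle'⟩ := (Ideal.subset_union_prime (R := A) (f := id) ⊥ ⊥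
        (fun I hI _ _ => (hbad I hI).1) (I := maximalIdeal A)).1 fun x hx => by
          obtain ⟨I, hI, hxI⟩ := hcon x hx
          exact Set.mem_biUnion hI hxI
      exact (hbad I hI).2 ((maximalIdeal.isMaximal A).eq_of_le (hbad I hI).1.ne_top hle').symm
    have hx0 : x ≠ 0 := fun h => hx ⊥ (Finset.mem_insert_self _ _) (h ▸ Submodule.zero_mem _)
    have hxq : algebraMap A (EGA4.Cpl A) x ∉ q := fun h => hx0 (comap_minimalPrimes_eq_bot hq h)
    -- a prime of height one over `q`
    have hJ : (Ideal.span {Ideal.Quotient.mk q (algebraMap A (EGA4.Cpl A) x)}) ≠ ⊤ := by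
      rw [Ne, Ideal.span_singleton_eq_top]
      intro hu
      haveI : Nontrivial (EGA4.Cpl A ⧸ q) := Ideal.Quotient.nontrivial_iff.2 hq.1.1.ne_top
      haveI : IsLocalHom (Ideal.Quotient.mk q) := IsLocalHom.of_surjective _ Ideal.Quotient.mk_surjective
      exact (maximalIdeal.isMaximal (EGA4.Cpl A)).ne_top (Ideal.eq_top_of_isUnit_mem _
        (by rw [hmC]; exact Ideal.mem_map_of_mem _ hxm) (isUnit_of_map_unit _ _ hu))
    obtain ⟨Qb, hQb⟩ := Ideal.nonempty_minimalPrimes hJ
    haveI := hQb.1.1
    have hQb1 : Qb.height ≤ 1 := Ideal.height_le_one_of_isPrincipal_of_mem_minimalPrimes _ Qb hQb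
    let Q := Qb.comap (Ideal.Quotient.mk q)
    have hQmap : Q.map (Ideal.Quotient.mk q) = Qb := Ideal.map_comap_of_surjective _ Ideal.Quotient.mk_surjective _
    have hxQ : algebraMap A (EGA4.Cpl A) x ∈ Q := hQb.1.2 (Ideal.mem_span_singleton_self _)
    have hqQ : q < Q := lt_of_le_of_ne (fun z hz => by
      show Ideal.Quotient.mk q z ∈ Qb
      rw [Ideal.Quotient.eq_zero_iff_mem.2 hz]; exact zero_mem _) fun h => hxq (h ▸ hxQ)
    have hQ1 : (Q.map (Ideal.Quotient.mk q)).height = 1 := by
      rw [hQmap]; exact le_antisymm hQb1 (hQmap ▸ one_le_height_map hqQ)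
    have hQm : Q ≠ maximalIdeal (EGA4.Cpl A) := fun h => by
      rw [qdim, ← h, hQ1] at he
      exact lt_irrefl _ he
    have honly : ∀ q' : Ideal (EGA4.Cpl A), q' ∈ minimalPrimes (EGA4.Cpl A) → q' ≤ Q → q' = q := by
      intro q' hq' hle'
      by_contra hne
      obtain ⟨Q0, hQ0, hQ0le⟩ := Ideal.exists_minimalPrimes_le (sup_le hqQ.le hle' : q ⊔ q' ≤ Q)
      haveI := hQ0.1.1
      have hq0 : q < Q0 := lt_of_le_of_ne (le_sup_left.trans hQ0.1.2) fun h =>
        hne (le_antisymm (h ▸ le_sup_right.trans hQ0.1.2) (hq.2 ⟨hq'.1.1, bot_le⟩ (h ▸ le_sup_right.trans hQ0.1.2)))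
      rcases eq_or_lt_of_le hQ0le with rfl | hlt
      · exact hx _ (Finset.mem_insert_of_mem (Finset.mem_image_of_mem _
          (hT.mem_toFinset.2 ⟨hQm, q', hq', hne, hQ0⟩))) hxQ
      · have hsum := height_quot_add q Q0 Q hq0.le hlt.le hcat
        have := add_le_add (one_le_height_map hq0) (one_le_height_map hlt)
        rw [← hsum, hQ1] at this
        exact absurd this (by norm_num)
    have hbelow : ∀ P : Ideal (EGA4.Cpl A), P.IsPrime → P < Q → P = q := by
      intro P hP hPQ
      obtain ⟨q', hq', hq'P⟩ := Ideal.exists_minimalPrimes_le (I := (⊥ : Ideal (EGA4.Cpl A))) (J := P) bot_le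
      obtain rfl := honly q' hq' (hq'P.trans hPQ.le)
      by_contra hne
      have hqP : q' < P := lt_of_le_of_ne hq'P (Ne.symm hne)
      have hsum := height_quot_add q' P Q hqP.le hPQ.le hcat
      have := add_le_add (one_le_height_map hqP) (one_le_height_map hPQ)
      rw [← hsum, hQ1] at this
      exact absurd this (by norm_num)
    let p := Q.under A
    have hxp : x ∈ p := hxQ
    haveI : Q.LiesOver p := ⟨rfl⟩
    have hp1 : p.height = 1 := by
      refine le_antisymm ?_ ?_
      · refine (Ideal.height_le_iff (p := p) (n := 1)).2 fun P' hP' hlt => ?_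
        obtain ⟨P, hPQ, hPprime, hP⟩ := Q.exists_ideal_lt_liesOver_of_lt (p := P') (q := p) hlt
        have hP0 : P' = ⊥ := by
          rw [hP.over, hbelow P hPprime hPQ, eq_bot_iff]
          exact fun y hy => comap_minimalPrimes_eq_bot hq hy
        rw [hP0, Ideal.height_bot]
        exact zero_lt_one
      · rw [Order.one_le_iff_ne_zero, Ne, Ideal.height_eq_zero_iff, IsDomain.minimalPrimes_eq_singleton_bot,
          Set.mem_singleton_iff]
        exact fun h => hx0 (by rw [h] at hxp; exact hxp)
    have hQp : Q ∈ (p.map (algebraMap A (EGA4.Cpl A))).minimalPrimes := by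
      refine ⟨⟨inferInstance, Ideal.map_comap_le⟩, fun P hP hle' => ?_⟩
      by_contra hne
      haveI := hP.1
      have hPq : P = q := hbelow P inferInstance (lt_of_le_not_ge hle' hne)
      exact hxq (hPq ▸ hP.2 (Ideal.mem_map_of_mem _ hxp))
    -- induction
    have hsplit : (maximalIdeal A).height = 1 + qdim p := by
      have hc : CAlg.IsCatenary A := hA.2 A inferInstance
      rw [GrothLib.Altitude.height_eq_add_of_isCatenary hc p (maximalIdeal A)
        (IsLocalRing.le_maximalIdeal Ideal.IsPrime.ne_top'), hp1]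
      rfl
    haveI : IsLocalRing (A ⧸ p) := IsLocalRing.of_surjective' (Ideal.Quotient.mk p) Ideal.Quotient.mk_surjective
    have hmap : maximalIdeal (A ⧸ p) = (maximalIdeal A).map (Ideal.Quotient.mk p) :=
      (IsLocalRing.map_maximalIdeal_of_surjective _ Ideal.Quotient.mk_surjective).symm
    obtain ⟨k, hk⟩ := ENat.ne_top_iff_exists.1 (qdim_ne_top (I := p) Ideal.IsPrime.ne_top')
    have hkd : k < d := by
      rw [hsplit, ← hk] at hd
      norm_cast at hd
      omega
    have hEq := ih k hkd (A ⧸ p)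
      (GrothLib.Altitude.isUniversallyCatenary_of_surjective _ Ideal.Quotient.mk_surjective hA)
      (by rw [hmap, hk]; exact le_rfl)
    rw [isFormallyEquidim_quotient_iff, isEquidim_quotient_iff (map_ne_top Ideal.IsPrime.ne_top')] at hEq
    have h2 := hEq Q hQp
    rw [qdim_map Ideal.IsPrime.ne_top', qdim_maximal_map_cpl, add_zero] at h2
    rw [hh, hsplit, ← h2, ← hQ1]
    exact height_quot_add q Q (maximalIdeal (EGA4.Cpl A)) hqQ.le (IsLocalRing.le_maximalIdeal Ideal.IsPrime.ne_top') hcat

/-- **Ratliff's theorem**: universally catenary local rings are formally catenary. -/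
theorem isFormallyCatenary {A : Type u} [CommRing A] [IsLocalRing A] [IsNoetherianRing A]
    (hA : CAlg.IsUniversallyCatenary A) : EGA4.IsFormallyCatenary A := by
  intro p _
  haveI : IsLocalRing (A ⧸ p) := IsLocalRing.of_surjective' (Ideal.Quotient.mk p) Ideal.Quotient.mk_surjective
  obtain ⟨n, hn⟩ := ENat.ne_top_iff_exists.1
    (Ideal.height_ne_top (I := maximalIdeal (A ⧸ p)) Ideal.IsPrime.ne_top')
  exact isFormallyEquidim n (A ⧸ p)
    (GrothLib.Altitude.isUniversallyCatenary_of_surjective _ Ideal.Quotient.mk_surjective hA) hn.ge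

end GrothLib.RatliffUC3
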