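import Mathlib

/-!
# Approximation in a completion

`C` is a flat algebra over a local ring `A` in which `A` is dense for the adic topology of the maximal ideal.
-/

set_option autoImplicit false
universe u

open IsLocalRing TensorProduct

namespace GrothLib.RatliffUC3

variable {A C : Type u} [CommRing A] [IsLocalRing A] [IsNoetherianRing A] [CommRing C] [IsLocalRing C]
  [IsNoetherianRing C] [Algebra A C]

omit [IsLocalRing A] [IsNoetherianRing A] in
/-- An ideal contained in no prime but the maximal one contains a power of it. -/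
theorem exists_pow_le (J : Ideal C) (h : ∀ Q : Ideal C, Q.IsPrime → J ≤ Q → Q = maximalIdeal C) :
    ∃ L, maximalIdeal C ^ L ≤ J := by
  refine Ideal.exists_pow_le_of_le_radical_of_fg ?_ (IsNoetherian.noetherian (maximalIdeal C))
  rw [Ideal.radical_eq_sInf]
  refine le_sInf fun Q ⟨hQ, hQp⟩ => ?_
  exact (h Q hQp hQ).ge

omit [IsNoetherianRing C] in
/-- An element of `C` killed modulo `y` by a power of the maximal ideal comes from `A` modulo `y`. -/
theorem exists_approx [Module.Flat A C] (hm : maximalIdeal C = (maximalIdeal A).map (algebraMap A C))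
    (happ : ∀ (c : C) (k : ℕ), ∃ a : A, c - algebraMap A C a ∈ maximalIdeal C ^ k)
    (y : A) (N : ℕ) (z : C) (h : ∀ w ∈ maximalIdeal A ^ N, algebraMap A C y ∣ algebraMap A C w * z) :
    ∃ b : A, algebraMap A C y ∣ z - algebraMap A C b := by
  classical
  obtain ⟨s, hs⟩ := IsNoetherian.noetherian (maximalIdeal A ^ N)
  let M := A ⧸ Ideal.span {y}
  let φ : M →ₗ[A] (s → M) := LinearMap.pi fun i => (i.1 : A) • LinearMap.id
  have h0 : φ.lTensor C (z ⊗ₜ[A] (1 : M)) = 0 := by
    rw [LinearMap.lTensor_tmul]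
    have hv : φ (1 : M) = ∑ i : s, (i.1 : A) • Pi.single i (1 : M) := by
      ext j
      rw [Finset.sum_apply, Finset.sum_eq_single j (fun i _ hij => by
        rw [Pi.smul_apply, Pi.single_eq_of_ne' hij, smul_zero]) (fun hj => absurd (Finset.mem_univ j) hj),
        Pi.smul_apply, Pi.single_eq_same]
      rfl
    rw [hv, TensorProduct.tmul_sum]
    refine Finset.sum_eq_zero fun i _ => ?_
    obtain ⟨w, hw⟩ := h i.1 (hs ▸ Submodule.subset_span i.2)
    have h1 : y • (Pi.single i (1 : M) : s → M) = 0 := by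
      rw [← Pi.single_smul']
      have h2 : y • (1 : M) = 0 := by
        show Ideal.Quotient.mk (Ideal.span {y}) (y * 1) = 0
        rw [mul_one, Ideal.Quotient.eq_zero_iff_mem]
        exact Ideal.mem_span_singleton_self y
      rw [h2, Pi.single_zero]
    rw [← TensorProduct.smul_tmul, Algebra.smul_def, hw, ← Algebra.smul_def, TensorProduct.smul_tmul, h1,
      TensorProduct.tmul_zero]
  obtain ⟨t, ht⟩ := (Module.Flat.lTensor_exact C (LinearMap.exact_subtype_ker_map φ) _).1 h0
  have hk : ∀ k : LinearMap.ker φ, ∀ w ∈ maximalIdeal A ^ N, w • k = 0 := by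
    intro k w hw
    have hle : maximalIdeal A ^ N ≤ LinearMap.ker (LinearMap.toSpanSingleton A (LinearMap.ker φ) k) := by
      conv_lhs => rw [← hs]
      rw [Submodule.span_le]
      intro i hi
      exact Subtype.ext (congrFun (LinearMap.mem_ker.1 k.2) ⟨i, hi⟩)
    exact hle hw
  have hsimp : ∀ (c : C) (k : LinearMap.ker φ), ∃ a : A, c ⊗ₜ[A] k = (1 : C) ⊗ₜ[A] (a • k) := by
    intro c k
    obtain ⟨a, ha⟩ := happ c N
    refine ⟨a, ?_⟩
    have h1 : ∀ μ ∈ (maximalIdeal A ^ N).map (algebraMap A C), μ ⊗ₜ[A] k = 0 := by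
      intro μ hμ
      unfold Ideal.map at hμ
      induction hμ using Submodule.span_induction with
      | mem x hx =>
        obtain ⟨w, hw, rfl⟩ := hx
        rw [Algebra.algebraMap_eq_smul_one, TensorProduct.smul_tmul, hk k w hw, TensorProduct.tmul_zero]
      | zero => exact TensorProduct.zero_tmul _ _
      | add x x' _ _ hx hx' => rw [TensorProduct.add_tmul, hx, hx', add_zero]
      | smul r x _ hx =>
        rw [← TensorProduct.smul_tmul', hx, smul_zero]
    have h2 := h1 _ (by rw [Ideal.map_pow, ← hm]; exact ha)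
    rw [TensorProduct.sub_tmul, sub_eq_zero] at h2
    rw [h2, Algebra.algebraMap_eq_smul_one, TensorProduct.smul_tmul]
  obtain ⟨k, hk1⟩ : ∃ k : LinearMap.ker φ, t = (1 : C) ⊗ₜ[A] k := by
    clear ht
    induction t using TensorProduct.induction_on with
    | zero => exact ⟨0, (TensorProduct.tmul_zero _ _).symm⟩
    | tmul c k =>
      obtain ⟨a, ha⟩ := hsimp c k
      exact ⟨a • k, ha⟩
    | add t t' h1 h2 =>
      obtain ⟨k, rfl⟩ := h1
      obtain ⟨k', rfl⟩ := h2
      exact ⟨k + k', (TensorProduct.tmul_add _ _ _).symm⟩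
  obtain ⟨b, hb⟩ := Ideal.Quotient.mk_surjective (k : M)
  refine ⟨b, ?_⟩
  rw [hk1, LinearMap.lTensor_tmul, Submodule.subtype_apply, ← hb] at ht
  have h1 : (z - algebraMap A C b) ⊗ₜ[A] (1 : M) = 0 := by
    rw [TensorProduct.sub_tmul, ← ht, Algebra.algebraMap_eq_smul_one, TensorProduct.smul_tmul, sub_eq_zero]
    congr 1
    show Ideal.Quotient.mk (Ideal.span {y}) b = Ideal.Quotient.mk (Ideal.span {y}) (b * 1)
    rw [mul_one]
  have h2 : Ideal.Quotient.mk ((Ideal.span {y}).map (algebraMap A C)) (z - algebraMap A C b) = 0 := by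
    refine (Algebra.TensorProduct.quotIdealMapEquivTensorQuot C (Ideal.span {y})).injective ?_
    rw [map_zero]
    exact (Algebra.TensorProduct.quotIdealMapEquivTensorQuot_mk C (Ideal.span {y}) _).trans h1
  rwa [Ideal.Quotient.eq_zero_iff_mem, Ideal.map_span, Set.image_singleton, Ideal.mem_span_singleton] at h2

end GrothLib.RatliffUC3
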