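import Groth.Agent.Lib.RatliffUC3.Approx
import Groth.Agent.Lib.Altitude.Basic

/-!
# Ratliff's lemma

A universally catenary local domain whose completion has a component of dimension one has dimension at most one.
-/

set_option autoImplicit false
set_option linter.style.haveILetI false
universe u

open IsLocalRing Polynomial

namespace GrothLib.RatliffUC3

variable (A : Type u) [CommRing A] [IsDomain A] [IsLocalRing A] [IsNoetherianRing A]

/-- A finite domain extension has a maximal ideal of the dimension of the ring. -/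
theorem height_eq_of_finite (hA : CAlg.IsUniversallyCatenary A) (B : Type u) [CommRing B] [IsDomain B] [Algebra A B]
    [FaithfulSMul A B] [Module.Finite A B] (P : Ideal B) [P.IsPrime] [P.LiesOver (maximalIdeal A)] :
    P.height = (maximalIdeal A).height := by
  obtain ⟨t, s, ht, hs, -, heq⟩ := GrothLib.Altitude.height_add_trdeg A B (maximalIdeal A) P
  haveI : Algebra.IsAlgebraic A B := Algebra.IsIntegral.isAlgebraic
  haveI : Algebra.IsAlgebraic (A ⧸ maximalIdeal A) (B ⧸ P) := Algebra.IsIntegral.isAlgebraic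
  rw [trdeg_eq_zero, eq_comm, Nat.cast_eq_zero] at ht hs
  subst ht hs
  haveI : IsLocalization (⊥ : Submonoid A) A := IsLocalization.self bot_le
  simpa using heq ⊥ A bot_le hA

variable {A} {C : Type u} [CommRing C] [IsLocalRing C] [IsNoetherianRing C] [Algebra A C] [Module.FaithfullyFlat A C]

omit [IsLocalRing A] [IsNoetherianRing A] [IsLocalRing C] [IsNoetherianRing C] in
theorem comap_minimalPrimes_eq_bot {q : Ideal C} (hq : q ∈ minimalPrimes C) {y : A} (hy : algebraMap A C y ∈ q) :
    y = 0 := by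
  by_contra h0
  have hreg : algebraMap A C y ∈ nonZeroDivisors C := by
    rw [mem_nonZeroDivisors_iff_right]
    intro z hz
    have h1 : IsSMulRegular C (algebraMap A C y) :=
      (IsSMulRegular.of_right_eq_zero_of_smul fun a (ha : y • a = 0) => (mul_eq_zero.1 ha).resolve_left h0).of_flat
    refine h1 (a₁ := z) (a₂ := 0) ?_
    show algebraMap A C y * z = algebraMap A C y * 0
    rw [mul_zero, mul_comm, hz]
  exact Set.disjoint_left.1 (Ideal.disjoint_nonZeroDivisors_of_mem_minimalPrimes hq) hy hreg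

/-- The data cut out by a component of dimension one. -/
theorem exists_component_data (q : Ideal C) [q.IsPrime] (hq : q ∈ minimalPrimes C)
    (h1 : ∀ Q : Ideal C, Q.IsPrime → q < Q → Q = maximalIdeal C) {x : C} (hx : x ∈ maximalIdeal C) (hxq : x ∉ q) :
    ∃ (K : Ideal C) (a : C) (n : ℕ), K = RingHom.ker (algebraMap C (Localization.AtPrime q)) ∧
      (∀ κ ∈ K, κ * a = 0) ∧ x ^ n - a ∈ K ∧ ∀ j, ∃ L, maximalIdeal C ^ L ≤ K ⊔ Ideal.span {x ^ j} := by
  classical
  let K : Ideal C := RingHom.ker (algebraMap C (Localization.AtPrime q))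
  have hrad : ∀ Q : Ideal C, Q.IsPrime → K ≤ Q → q ≤ Q := by
    intro Q hQ hKQ z hz
    have hmin : maximalIdeal (Localization.AtPrime q) ∈ minimalPrimes (Localization.AtPrime q) := by
      refine ⟨⟨inferInstance, bot_le⟩, fun P hP hle => ?_⟩
      haveI := hP.1
      have h2 : P.under C ≤ q := fun w hw =>
        (IsLocalization.AtPrime.to_map_mem_maximal_iff (Localization.AtPrime q) q w).1 (hle hw)
      have h3 : q ≤ P.under C := hq.2 ⟨inferInstance, bot_le⟩ h2
      intro w hw
      obtain ⟨⟨c, s⟩, rfl⟩ := IsLocalization.mk'_surjective q.primeCompl w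
      show IsLocalization.mk' _ c s ∈ P
      rw [IsLocalization.AtPrime.mk'_mem_maximal_iff (Localization.AtPrime q) q] at hw
      rw [IsLocalization.mk'_eq_mul_mk'_one]
      exact P.mul_mem_right _ (h3 hw)
    have hnil : IsNilpotent (algebraMap C (Localization.AtPrime q) z) := by
      rw [← mem_nilradical, nilradical_eq_sInf, Ideal.mem_sInf]
      intro P hP
      haveI : P.IsPrime := hP
      exact hmin.2 ⟨hP, bot_le⟩ (IsLocalRing.le_maximalIdeal hP.ne_top)
        ((IsLocalization.AtPrime.to_map_mem_maximal_iff (Localization.AtPrime q) q z).2 hz)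
    obtain ⟨k, hk⟩ := hnil
    exact hQ.mem_of_pow_mem k (hKQ (by show algebraMap C _ (z ^ k) = 0; rw [map_pow, hk]))
  obtain ⟨G, hG⟩ := IsNoetherian.noetherian K
  have hs : ∀ κ : C, κ ∈ K → ∃ s : C, s ∉ q ∧ s * κ = 0 := fun κ hκ => by
    obtain ⟨⟨s, hs⟩, hsκ⟩ := (IsLocalization.map_eq_zero_iff q.primeCompl (Localization.AtPrime q) κ).1 hκ
    exact ⟨s, hs, hsκ⟩
  choose σ hσq hσ using fun κ : G => hs κ.1 (hG ▸ Submodule.subset_span κ.2)
  let s : C := ∏ κ : G, σ κ
  have hsq : s ∉ q := fun h => by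
    obtain ⟨κ, -, hκ⟩ := (‹q.IsPrime›.prod_mem_iff).1 h
    exact hσq κ hκ
  have hsK : ∀ κ ∈ K, κ * s = 0 := by
    intro κ hκ
    have : K ≤ LinearMap.ker (LinearMap.mulRight C s) := by
      rw [← hG, Submodule.span_le]
      intro g hg
      show g * s = 0
      rw [show s = σ ⟨g, hg⟩ * ∏ κ ∈ Finset.univ.erase (⟨g, hg⟩ : G), σ κ from
        (Finset.mul_prod_erase _ _ (Finset.mem_univ _)).symm, ← mul_assoc, mul_comm g, hσ ⟨g, hg⟩, zero_mul]
    exact this hκ
  have hKs : ∀ Q : Ideal C, Q.IsPrime → K ⊔ Ideal.span {s} ≤ Q → Q = maximalIdeal C := fun Q hQ hle =>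
    h1 Q hQ (lt_of_le_of_ne (hrad Q hQ (le_sup_left.trans hle)) fun he =>
      hsq (he ▸ hle (Ideal.mem_sup_right (Ideal.mem_span_singleton_self s))))
  obtain ⟨n, hn⟩ := exists_pow_le _ hKs
  obtain ⟨κ, hκ, w, hw, hsum⟩ := Submodule.mem_sup.1 (hn (Ideal.pow_mem_pow hx n))
  obtain ⟨r, rfl⟩ := Ideal.mem_span_singleton.1 hw
  refine ⟨K, s * r, n, rfl, fun κ' hκ' => by rw [← mul_assoc, hsK κ' hκ', zero_mul], ?_, fun j => ?_⟩
  · rw [← hsum, add_sub_cancel_right]; exact hκ
  · refine exists_pow_le _ fun Q hQ hle => h1 Q hQ (lt_of_le_of_ne (hrad Q hQ (le_sup_left.trans hle)) ?_)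
    intro he
    exact hxq (he ▸ hQ.mem_of_pow_mem j (hle (Ideal.mem_sup_right (Ideal.mem_span_singleton_self _))))

omit [IsDomain A] [IsNoetherianRing A] [IsNoetherianRing C] [Module.FaithfullyFlat A C] in
theorem algebraMap_mem_pow (hm : maximalIdeal C = (maximalIdeal A).map (algebraMap A C)) {w : A} {k : ℕ}
    (hw : w ∈ maximalIdeal A ^ k) : algebraMap A C w ∈ maximalIdeal C ^ k := by
  rw [hm, ← Ideal.map_pow]; exact Ideal.mem_map_of_mem _ hw

/-- **Ratliff's lemma**. -/
theorem height_le_one (hA : CAlg.IsUniversallyCatenary A)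
    (hm : maximalIdeal C = (maximalIdeal A).map (algebraMap A C))
    (happ : ∀ (c : C) (k : ℕ), ∃ a : A, c - algebraMap A C a ∈ maximalIdeal C ^ k)
    (q : Ideal C) [q.IsPrime] (hq : q ∈ minimalPrimes C)
    (h1 : ∀ Q : Ideal C, Q.IsPrime → q < Q → Q = maximalIdeal C) :
    (maximalIdeal A).height ≤ 1 := by
  classical
  by_cases hbot : maximalIdeal A = ⊥
  · rw [hbot, Ideal.height_bot]; exact zero_le
  obtain ⟨x, hxm, hx0⟩ := Submodule.exists_mem_ne_zero_of_ne_bot hbot
  have hback : ∀ (J : Ideal A) (y : A), algebraMap A C y ∈ J.map (algebraMap A C) → y ∈ J := fun J y hy => by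
    have := Ideal.comap_map_eq_self_of_faithfullyFlat (B := C) J
    rw [← this]; exact hy
  have hback' : ∀ (k : ℕ) (y : A), algebraMap A C y ∈ maximalIdeal C ^ k → y ∈ maximalIdeal A ^ k := fun k y hy =>
    hback _ y (by rw [Ideal.map_pow, ← hm]; exact hy)
  have hxq : algebraMap A C x ∉ q := fun h => hx0 (comap_minimalPrimes_eq_bot hq h)
  have hxC : algebraMap A C x ∈ maximalIdeal C := by rw [hm]; exact Ideal.mem_map_of_mem _ hxm
  obtain ⟨K, a, n, hK, hKa, hna, hpow⟩ := exists_component_data q hq h1 hxC hxq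
  let ξ : C := algebraMap A C x
  have hξ : ∀ (k : ℕ) (z : C), ξ ^ k * z = 0 → z = 0 := fun k z hz => by
    have h1 : IsSMulRegular C (algebraMap A C (x ^ k)) :=
      (IsSMulRegular.of_right_eq_zero_of_smul fun c (hc : x ^ k • c = 0) =>
        (mul_eq_zero.1 hc).resolve_left (pow_ne_zero k hx0)).of_flat
    refine h1 (a₁ := z) (a₂ := 0) ?_
    show algebraMap A C (x ^ k) * z = algebraMap A C (x ^ k) * 0
    rw [mul_zero, map_pow, hz]
  obtain ⟨N, hN⟩ := hpow n
  obtain ⟨L, hL⟩ := hpow (n + 1)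
  have hNa : ∀ z ∈ maximalIdeal C ^ N, ∃ d, z * a = ξ ^ n * d := by
    intro z hz
    obtain ⟨κ, hκ, w, hw, rfl⟩ := Submodule.mem_sup.1 (hN hz)
    obtain ⟨r, rfl⟩ := Ideal.mem_span_singleton.1 hw
    exact ⟨r * a, by rw [add_mul, hKa κ hκ, zero_add, mul_assoc]⟩
  have hNa' : ∀ (j : ℕ) (z : C), z ∈ maximalIdeal C ^ (N + j) → ∃ d ∈ maximalIdeal C ^ j, z * a = ξ ^ n * d := by
    intro j z hz
    rw [pow_add] at hz
    induction hz using Submodule.mul_induction_on' with
    | mem_mul_mem u hu v hv =>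
      obtain ⟨d, hd⟩ := hNa u hu
      exact ⟨d * v, Ideal.mul_mem_left _ _ hv, by rw [mul_assoc, mul_comm v, ← mul_assoc, hd, mul_assoc]⟩
    | add u _ v _ hu hv =>
      obtain ⟨d, hd1, hd2⟩ := hu
      obtain ⟨d', hd1', hd2'⟩ := hv
      exact ⟨d + d', add_mem hd1 hd1', by rw [add_mul, hd2, hd2', mul_add]⟩
  obtain ⟨b0, hb0⟩ := exists_approx hm happ (x ^ n) N a fun w hw => by
    obtain ⟨d, hd⟩ := hNa _ (algebraMap_mem_pow hm hw)
    exact ⟨d, by rw [hd, map_pow]⟩
  obtain ⟨c0, hc0⟩ := hb0
  obtain ⟨a2, hc⟩ := happ c0 (N + L + 1)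
  set c := c0 - algebraMap A C a2 with hcdef
  let b : A := b0 + x ^ n * a2
  have hb : algebraMap A C b = a - ξ ^ n * c := by
    simp only [b, map_add, map_mul, map_pow]
    rw [map_pow] at hc0
    show algebraMap A C b0 + ξ ^ n * algebraMap A C a2 = a - ξ ^ n * (c0 - algebraMap A C a2)
    linear_combination -hc0
  -- the integral equation
  obtain ⟨g, hg, hbg⟩ : ∃ g ∈ maximalIdeal A, b ^ 2 - b * x ^ n = x ^ (2 * n) * g := by
    obtain ⟨d, hd, hd'⟩ := hNa' 1 c (Ideal.pow_le_pow_right (by omega) hc)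
    have h2 : algebraMap A C (b ^ 2 - b * x ^ n) = ξ ^ (2 * n) * (c ^ 2 + c - 2 * d) := by
      have h3 : a * a - a * ξ ^ n = 0 := by linear_combination -(hKa _ hna)
      simp only [map_sub, map_mul, map_pow, hb]
      show (a - ξ ^ n * c) ^ 2 - (a - ξ ^ n * c) * ξ ^ n = _
      linear_combination h3 - 2 * ξ ^ n * hd'
    obtain ⟨g, hg⟩ := Ideal.mem_span_singleton.1 (hback (Ideal.span {x ^ (2 * n)}) (b ^ 2 - b * x ^ n) (by
      rw [h2, Ideal.map_span, Set.image_singleton, map_pow, Ideal.mem_span_singleton]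
      exact dvd_mul_right _ _))
    refine ⟨g, hback' 1 g ?_ |> fun h => by simpa using h, hg⟩
    have h4 : algebraMap A C g = c ^ 2 + c - 2 * d := by
      refine sub_eq_zero.1 (hξ (2 * n) _ ?_)
      rw [mul_sub, ← h2, hg, map_mul, map_pow, sub_self]
    rw [h4, pow_one]
    have hcm : c ∈ maximalIdeal C := Ideal.pow_le_self (by omega) hc
    rw [pow_one] at hd
    exact sub_mem (add_mem (by rw [sq]; exact Ideal.mul_mem_left _ _ hcm) hcm) (Ideal.mul_mem_left _ _ hd)
  -- the extension
  let F := FractionRing A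
  let ι : A →+* F := algebraMap A F
  have hιx : ι x ≠ 0 := fun h => hx0 (IsFractionRing.injective A F (h.trans (map_zero _).symm))
  let f : F := ι b / ι x ^ n
  have hfx : f * ι x ^ n = ι b := div_mul_cancel₀ _ (pow_ne_zero n hιx)
  let ev : A[X] →ₐ[A] F := Polynomial.aeval f
  let Q : Ideal A[X] := RingHom.ker ev
  haveI : Q.IsPrime := RingHom.ker_isPrime ev.toRingHom
  let pol : A[X] := Polynomial.X ^ 2 + (-Polynomial.X - Polynomial.C g)
  have hmon : pol.Monic := Polynomial.monic_X_pow_add (lt_of_le_of_lt ((Polynomial.degree_sub_le _ _).trans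
    (max_le (by rw [Polynomial.degree_neg]; exact Polynomial.degree_X_le)
      (Polynomial.degree_C_le.trans zero_le_one))) (by norm_num))
  have hpol : pol ∈ Q := by
    show ev pol = 0
    simp only [pol, map_add, map_sub, map_neg, map_pow, ev, Polynomial.aeval_X, Polynomial.aeval_C]
    refine (mul_eq_zero.1 ?_).resolve_right (pow_ne_zero (2 * n) hιx)
    have h2 := congrArg ι hbg
    simp only [map_sub, map_mul, map_pow] at h2
    show (f ^ 2 + (-f - ι g)) * ι x ^ (2 * n) = 0
    linear_combination h2 + (f * ι x ^ n + ι b - ι x ^ n) * hfx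
  let B := A[X] ⧸ Q
  haveI : Module.Finite A B := by
    haveI := hmon.finite_quotient
    exact Module.Finite.of_surjective
      (Ideal.Quotient.factorₐ A ((Ideal.span_singleton_le_iff_mem Q).2 hpol)).toLinearMap
      (Ideal.Quotient.factor_surjective ((Ideal.span_singleton_le_iff_mem Q).2 hpol))
  haveI : FaithfulSMul A B := (faithfulSMul_iff_algebraMap_injective _ _).2 <|
    (injective_iff_map_eq_zero _).2 fun r hr => by
      have h2 : ev (Polynomial.C r) = 0 := Ideal.Quotient.eq_zero_iff_mem.1 hr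
      rw [show ev (Polynomial.C r) = ι r from Polynomial.aeval_C _ _] at h2
      exact IsFractionRing.injective A F (h2.trans (map_zero _).symm)
  -- the maximal ideal where `f ↦ 1`
  let χ : A[X] →+* ResidueField A := Polynomial.eval₂RingHom (residue A) 1
  have hQP : Q ≤ RingHom.ker χ := by
    intro p hp
    let Cq := Localization.AtPrime q
    let toCq : A →+* Cq := (algebraMap C Cq).comp (algebraMap A C)
    have hunit : ∀ y : nonZeroDivisors A, IsUnit (toCq y) := fun y =>
      IsLocalization.map_units Cq (⟨algebraMap A C y, fun h =>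
        nonZeroDivisors.coe_ne_zero y (comap_minimalPrimes_eq_bot hq h)⟩ : q.primeCompl)
    let θ : F →+* Cq := IsLocalization.lift hunit
    have hθι : ∀ r, θ (ι r) = toCq r := fun r => IsLocalization.lift_eq hunit r
    have hθf : θ f = algebraMap C Cq (1 - c) := by
      refine (hunit ⟨x ^ n, pow_mem (mem_nonZeroDivisors_of_ne_zero hx0) n⟩).mul_right_cancel ?_
      have h2 : algebraMap C Cq (ξ ^ n - a) = 0 := by rw [← RingHom.mem_ker, ← hK]; exact hna
      show θ f * toCq (x ^ n) = algebraMap C Cq (1 - c) * toCq (x ^ n)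
      nth_rewrite 1 [← hθι]
      rw [← map_mul θ, map_pow, hfx, hθι]
      show algebraMap C Cq (algebraMap A C b) = algebraMap C Cq (1 - c) * algebraMap C Cq (algebraMap A C (x ^ n))
      rw [← map_mul, ← sub_eq_zero, ← map_sub, hb, map_pow,
        show a - ξ ^ n * c - (1 - c) * ξ ^ n = -(ξ ^ n - a) by ring, map_neg, h2, neg_zero]
    let υ : A[X] →+* C := Polynomial.eval₂RingHom (algebraMap A C) (1 - c)
    have h3 : θ.comp ev.toRingHom = (algebraMap C Cq).comp υ := by
      refine Polynomial.ringHom_ext (fun r => ?_) ?_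
      · show θ (ev (Polynomial.C r)) = algebraMap C Cq (υ (Polynomial.C r))
        rw [show ev (Polynomial.C r) = ι r from Polynomial.aeval_C _ _, hθι,
          show υ (Polynomial.C r) = algebraMap A C r from Polynomial.eval₂_C _ _]
        rfl
      · show θ (ev Polynomial.X) = algebraMap C Cq (υ Polynomial.X)
        rw [show ev Polynomial.X = f from Polynomial.aeval_X _, hθf,
          show υ Polynomial.X = 1 - c from Polynomial.eval₂_X _ _]
    have h4 : algebraMap C Cq (υ p) = 0 := by
      rw [← RingHom.comp_apply, ← h3, RingHom.comp_apply, show ev.toRingHom p = 0 from hp, map_zero]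
    have h5 : υ p ∈ maximalIdeal C := by
      refine IsLocalRing.le_maximalIdeal ?_ (show υ p ∈ RingHom.ker (algebraMap C Cq) from h4)
      exact RingHom.ker_ne_top _
    -- compare with the residue fields
    haveI : IsLocalHom (algebraMap A C) := ⟨fun r hr => by
      by_contra hr'
      exact (maximalIdeal C).ne_top_iff_one.1 (maximalIdeal.isMaximal C).ne_top (by
        have : algebraMap A C r ∈ maximalIdeal C := by rw [hm]; exact Ideal.mem_map_of_mem _ hr'
        exact absurd hr this)⟩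
    show χ p = 0
    refine (ResidueField.map (algebraMap A C)).injective ?_
    rw [map_zero]
    have h6 : (ResidueField.map (algebraMap A C)).comp χ = (residue C).comp υ := by
      refine Polynomial.ringHom_ext (fun r => ?_) ?_
      · show ResidueField.map _ (χ (Polynomial.C r)) = residue C (υ (Polynomial.C r))
        rw [show χ (Polynomial.C r) = residue A r from Polynomial.eval₂_C _ _,
          show υ (Polynomial.C r) = algebraMap A C r from Polynomial.eval₂_C _ _]
        rfl
      · show ResidueField.map _ (χ Polynomial.X) = residue C (υ Polynomial.X)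
        rw [show χ Polynomial.X = 1 from Polynomial.eval₂_X _ _,
          show υ Polynomial.X = 1 - c from Polynomial.eval₂_X _ _, map_one, map_sub, map_one,
          (residue_eq_zero_iff c).2 (Ideal.pow_le_self (by omega) hc), sub_zero]
    rw [← RingHom.comp_apply, h6, RingHom.comp_apply, residue_eq_zero_iff]
    exact h5
  let M1 : Ideal B := RingHom.ker (Ideal.Quotient.lift Q χ hQP)
  haveI : M1.IsPrime := RingHom.ker_isPrime _
  have hM1A : ∀ r : A, algebraMap A B r ∈ M1 ↔ r ∈ maximalIdeal A := fun r => by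
    show χ (Polynomial.C r) = 0 ↔ _
    rw [show χ (Polynomial.C r) = residue A r from Polynomial.eval₂_C _ _, residue_eq_zero_iff]
  haveI : M1.LiesOver (maximalIdeal A) := ⟨(Ideal.ext fun r => hM1A r).symm⟩
  rw [← height_eq_of_finite A hA B M1]
  haveI : IsNoetherianRing B := isNoetherian_of_tower A inferInstance
  refine Ideal.height_le_one_of_isPrincipal_of_mem_minimalPrimes (Ideal.span {algebraMap A B x}) M1 ?_
  refine ⟨⟨inferInstance, (Ideal.span_singleton_le_iff_mem _).2 ((hM1A x).2 hxm)⟩, fun P hP hPM => ?_⟩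
  haveI := hP.1
  have hxP : algebraMap A B x ∈ P := hP.2 (Ideal.mem_span_singleton_self _)
  let τ : B := Ideal.Quotient.mk Q Polynomial.X
  have hτ1 : τ - 1 ∈ M1 := by
    show χ (Polynomial.X - 1) = 0
    rw [map_sub, map_one, show χ Polynomial.X = 1 from Polynomial.eval₂_X _ _, sub_self]
  have hτP : τ ∉ P := fun h => (inferInstance : M1.IsPrime).ne_top ((Ideal.eq_top_iff_one M1).2 (by
    have := sub_mem (hPM h) hτ1
    rwa [sub_sub_cancel] at this))
  -- Nakayama in `B/P`
  have hstep : ∀ y ∈ maximalIdeal A ^ L, ∃ r ∈ maximalIdeal A ^ (L + 1), algebraMap A B y * τ - algebraMap A B r ∈ P := by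
    intro y hy
    obtain ⟨κ, hκ, w', hw', hsum⟩ := Submodule.mem_sup.1 (hL (algebraMap_mem_pow hm hy))
    obtain ⟨w, rfl⟩ := Ideal.mem_span_singleton.1 hw'
    obtain ⟨w0, hw0⟩ := happ w (N + L + 1)
    obtain ⟨d, hd, hd'⟩ := hNa' (L + 1) (w - algebraMap A C w0) (by rwa [← add_assoc])
    set w1 := w - algebraMap A C w0 with hw1
    let rC : C := -κ * c + ξ ^ (n + 1) * (d - w1 * c)
    have h2 : algebraMap A C ((y - x ^ (n + 1) * w0) * b) = ξ ^ n * rC := by
      simp only [map_mul, map_sub, map_pow, hb, rC]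
      show (algebraMap A C y - ξ ^ (n + 1) * algebraMap A C w0) * (a - ξ ^ n * c) = _
      rw [show algebraMap A C y - ξ ^ (n + 1) * algebraMap A C w0 = κ + ξ ^ (n + 1) * w1 by
        rw [hw1, ← hsum]; show κ + ξ ^ (n + 1) * w - _ = _; ring]
      linear_combination (hKa κ hκ) + ξ ^ (n + 1) * hd'
    obtain ⟨r, hr⟩ := Ideal.mem_span_singleton.1 (hback (Ideal.span {x ^ n}) _ (by
      rw [h2, Ideal.map_span, Set.image_singleton, map_pow, Ideal.mem_span_singleton]
      exact dvd_mul_right _ _))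
    have hrC : algebraMap A C r = rC := by
      refine sub_eq_zero.1 (hξ n _ ?_)
      rw [mul_sub, ← h2, hr, map_mul, map_pow, sub_self]
    refine ⟨r, hback' _ r ?_, ?_⟩
    · rw [hrC]
      have hcL : c ∈ maximalIdeal C ^ (L + 1) := Ideal.pow_le_pow_right (by omega) hc
      exact add_mem (Ideal.mul_mem_left _ _ hcL)
        (Ideal.mul_mem_left _ _ (sub_mem hd (Ideal.mul_mem_left _ _ hcL)))
    have h3 : algebraMap A B y * τ - algebraMap A B r = algebraMap A B x * (algebraMap A B (x ^ n * w0) * τ) := by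
      show Ideal.Quotient.mk Q (Polynomial.C y * Polynomial.X - Polynomial.C r) =
        Ideal.Quotient.mk Q (Polynomial.C x * (Polynomial.C (x ^ n * w0) * Polynomial.X))
      rw [Ideal.Quotient.eq]
      show ev _ = 0
      simp only [map_sub, map_mul, ev, Polynomial.aeval_X, Polynomial.aeval_C]
      refine (mul_eq_zero.1 ?_).resolve_right (pow_ne_zero n hιx)
      have h4 := congrArg ι hr
      simp only [map_sub, map_mul, map_pow] at h4 ⊢
      show (ι y * f - ι r - ι x * (ι x ^ n * ι w0 * f)) * ι x ^ n = 0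
      linear_combination h4 + (ι y - ι x ^ (n + 1) * ι w0) * hfx
    rw [h3]
    exact Ideal.mul_mem_right _ _ hxP
  let I : Ideal (B ⧸ P) := (maximalIdeal A ^ L).map (algebraMap A (B ⧸ P))
  let Mb : Ideal (B ⧸ P) := M1.map (Ideal.Quotient.mk P)
  have hle : I ≤ Mb • I := by
    rw [smul_eq_mul, Ideal.map_le_iff_le_comap]
    intro y hy
    show algebraMap A (B ⧸ P) y ∈ Mb * I
    obtain ⟨r, hr, hyr⟩ := hstep y hy
    have h4 : algebraMap A (B ⧸ P) y * Ideal.Quotient.mk P τ = algebraMap A (B ⧸ P) r :=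
      (map_mul (Ideal.Quotient.mk P) _ _).symm.trans (Ideal.Quotient.eq.2 hyr)
    rw [show algebraMap A (B ⧸ P) y = algebraMap A (B ⧸ P) r - algebraMap A (B ⧸ P) y * Ideal.Quotient.mk P (τ - 1) by
      rw [map_sub, map_one, mul_sub, h4, mul_one, sub_sub_cancel]]
    refine sub_mem ?_ ?_
    · rw [pow_succ'] at hr
      have := Ideal.mem_map_of_mem (algebraMap A (B ⧸ P)) hr
      rw [Ideal.map_mul] at this
      refine Ideal.mul_mono_left ?_ this
      rw [Ideal.map_le_iff_le_comap]
      exact fun t ht => Ideal.mem_map_of_mem (Ideal.Quotient.mk P) ((hM1A t).2 ht)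
    · exact Ideal.mul_mem_mul_rev (Ideal.mem_map_of_mem _ hτ1) (Ideal.mem_map_of_mem _ hy)
  obtain ⟨u, hu, hu'⟩ := Submodule.exists_sub_one_mem_and_smul_eq_zero_of_fg_of_le_smul Mb I
    (IsNoetherian.noetherian I) hle
  have hu0 : u ≠ 0 := by
    rintro rfl
    rw [zero_sub, neg_mem_iff, ← map_one (Ideal.Quotient.mk P), Ideal.mem_quotient_iff_mem hPM] at hu
    exact (inferInstance : M1.IsPrime).ne_top ((Ideal.eq_top_iff_one M1).2 hu)
  have hI : maximalIdeal A ^ L ≤ P.under A := fun y hy =>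
    show algebraMap A B y ∈ P from Ideal.Quotient.eq_zero_iff_mem.1 (((mul_eq_zero.1 (hu' _ (Ideal.mem_map_of_mem _ hy))).resolve_left hu0) :
      algebraMap A (B ⧸ P) y = 0)
  haveI : (P.under A).IsPrime := inferInstance
  have hPm : P.under A = maximalIdeal A :=
    le_antisymm (IsLocalRing.le_maximalIdeal (Ideal.IsPrime.ne_top inferInstance)) (Ideal.IsPrime.le_of_pow_le hI)
  haveI : (P.under A).IsMaximal := hPm ▸ maximalIdeal.isMaximal A
  haveI : P.IsMaximal := Ideal.isMaximal_of_isIntegral_of_isMaximal_comap P ‹_›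
  exact (Ideal.IsMaximal.eq_of_le ‹P.IsMaximal› (Ideal.IsPrime.ne_top inferInstance) hPM).ge

end GrothLib.RatliffUC3
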